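import Mathlib

/-!
# Flat descent of submodules: a submodule of `A' ⊗ V` whose two pullbacks to `A' ⊗ A' ⊗ V`
coincide is generated by its elements of the form `1 ⊗ v`
-/

set_option autoImplicit false
universe u

open TensorProduct

namespace Groth.Agent.Lib.Helper24.SubComod

variable {A : Type*} [CommRing A] (A' : Type*) [CommRing A'] [Algebra A A']
  (V : Type*) [AddCommGroup V] [Module A V]

/-- `v ↦ 1 ⊗ v` -/
noncomputable abbrev ιV : V →ₗ[A] A' ⊗[A] V := (TensorProduct.mk A A' V) 1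

/-- the swap of the two `A'` factors -/
noncomputable abbrev τ : A' ⊗[A] (A' ⊗[A] V) ≃ₗ[A] A' ⊗[A] (A' ⊗[A] V) :=
  TensorProduct.leftComm A A' A' V

variable {A' V}

/-- the extension of a submodule of `A' ⊗ V` to `A' ⊗ (A' ⊗ V)` along the second factor -/
noncomputable abbrev E (N' : Submodule A' (A' ⊗[A] V)) : Submodule A (A' ⊗[A] (A' ⊗[A] V)) :=
  LinearMap.range (LinearMap.lTensor A' (N'.restrictScalars A).subtype)

theorem E_mono {N₁ N₂ : Submodule A' (A' ⊗[A] V)} (h : N₁ ≤ N₂) : E N₁ ≤ E N₂ := by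
  rintro _ ⟨z, rfl⟩
  refine ⟨LinearMap.lTensor A' (Submodule.inclusion (show N₁.restrictScalars A ≤ N₂.restrictScalars A
    from h)) z, ?_⟩
  rw [← LinearMap.comp_apply, ← LinearMap.lTensor_comp]
  rfl

theorem tmul_mem_E (N' : Submodule A' (A' ⊗[A] V)) (a : A') {n : A' ⊗[A] V} (hn : n ∈ N') :
    a ⊗ₜ[A] n ∈ E N' :=
  ⟨a ⊗ₜ ⟨n, hn⟩, rfl⟩

theorem lTensor_ιV_eq (x : A' ⊗[A] V) :
    LinearMap.lTensor A' (ιV A' V) x = τ A' V ((1 : A') ⊗ₜ[A] x) := by
  induction x with
  | zero => simp
  | tmul a v => simp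
  | add x y hx hy => rw [map_add, tmul_add, map_add, hx, hy]

/-- **Flat descent of submodules.** -/
theorem le_span_of_swap_mem [Module.Flat A A'] (N' : Submodule A' (A' ⊗[A] V))
    (H : ∀ n ∈ N', τ A' V ((1 : A') ⊗ₜ[A] n) ∈ E N') :
    N' ≤ Submodule.span A' (ιV A' V '' (Submodule.comap (ιV A' V) (N'.restrictScalars A))) := by
  intro x hx
  set N : Submodule A V := Submodule.comap (ιV A' V) (N'.restrictScalars A) with hN
  let g : V →ₗ[A] (A' ⊗[A] V) ⧸ (N'.restrictScalars A) := (N'.restrictScalars A).mkQ ∘ₗ ιV A' V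
  have hker : LinearMap.ker g = N := by
    ext v
    simp [g, hN, LinearMap.mem_ker, Submodule.Quotient.mk_eq_zero]
  have hex : Function.Exact N.subtype g := by
    rw [LinearMap.exact_iff, hker, Submodule.range_subtype]
  have hex' : Function.Exact (LinearMap.lTensor A' N.subtype) (LinearMap.lTensor A' g) :=
    Module.Flat.lTensor_exact A' hex
  have hex2 : Function.Exact (LinearMap.lTensor A' (N'.restrictScalars A).subtype)
      (LinearMap.lTensor A' (N'.restrictScalars A).mkQ) :=
    lTensor_exact A' (LinearMap.exact_subtype_mkQ _) (Submodule.mkQ_surjective _)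
  have h0 : LinearMap.lTensor A' g x = 0 := by
    have : LinearMap.lTensor A' g x =
        LinearMap.lTensor A' (N'.restrictScalars A).mkQ (LinearMap.lTensor A' (ιV A' V) x) := by
      rw [← LinearMap.comp_apply, ← LinearMap.lTensor_comp]
    rw [this, lTensor_ιV_eq]
    exact (hex2 _).2 (H x hx)
  obtain ⟨z, rfl⟩ := (hex' x).1 h0
  clear h0 hx
  induction z with
  | zero => simp
  | tmul a n =>
    have : LinearMap.lTensor A' N.subtype (a ⊗ₜ n) = a • (ιV A' V (n : V)) := by
      simp [TensorProduct.smul_tmul']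
    rw [this]
    exact Submodule.smul_mem _ _ (Submodule.subset_span ⟨n, n.2, rfl⟩)
  | add x y hx hy => rw [map_add]; exact Submodule.add_mem _ hx hy

end Groth.Agent.Lib.Helper24.SubComod
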