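import Mathlib

/-!
# Dual basis bookkeeping for a module `C` such that `A' ⊗ C` is projective over `A'`
-/

set_option autoImplicit false
universe u

open TensorProduct

namespace Groth.Agent.Lib.Helper24.SubComod

variable {A : Type*} [CommRing A] {A' : Type*} [CommRing A'] [Algebra A A']
  {C : Type*} [AddCommGroup C] [Module A C]

/-- a section of `Finsupp.linearCombination` for `A' ⊗ C` -/
structure DualData (A A' C : Type*) [CommRing A] [CommRing A'] [Algebra A A'] [AddCommGroup C]
    [Module A C] where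
  s : (A' ⊗[A] C) →ₗ[A'] ((A' ⊗[A] C) →₀ A')
  hs : ∀ z, Finsupp.linearCombination A' id (s z) = z

theorem exists_dualData [Module.Projective A' (A' ⊗[A] C)] : Nonempty (DualData A A' C) := by
  obtain ⟨s, hs⟩ := (Module.projective_def' (R := A') (P := A' ⊗[A] C)).1 inferInstance
  exact ⟨⟨s, fun z => LinearMap.congr_fun hs z⟩⟩

variable (D : DualData A A' C)

/-- the coordinate functionals, restricted to `C` -/
noncomputable def DualData.coord (y : A' ⊗[A] C) : C →ₗ[A] A' :=
  (((Finsupp.lapply y : ((A' ⊗[A] C) →₀ A') →ₗ[A'] A').comp D.s).restrictScalars A).comp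
    (TensorProduct.mk A A' C 1)

theorem DualData.coord_apply (y : A' ⊗[A] C) (c : C) : D.coord y c = D.s ((1 : A') ⊗ₜ[A] c) y := rfl

/-- the elements of `C` whose coordinates are supported in `Y` -/
def DualData.CY (Y : Finset (A' ⊗[A] C)) : Submodule A C where
  carrier := {c | (D.s ((1 : A') ⊗ₜ[A] c)).support ⊆ Y}
  add_mem' := by
    classical
    intro c d hc hd
    simp only [Set.mem_setOf_eq, tmul_add, map_add] at *
    exact (Finsupp.support_add).trans (Finset.union_subset hc hd)
  zero_mem' := by simp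
  smul_mem' := by
    intro a c hc
    simp only [Set.mem_setOf_eq] at *
    have : (1 : A') ⊗ₜ[A] (a • c) = (algebraMap A A' a) • ((1 : A') ⊗ₜ[A] c) := by
      rw [TensorProduct.smul_tmul', smul_eq_mul, mul_one, Algebra.algebraMap_eq_smul_one,
        TensorProduct.smul_tmul]
    rw [this, map_smul]
    exact (Finsupp.support_smul).trans hc

theorem DualData.mem_CY {Y : Finset (A' ⊗[A] C)} {c : C} :
    c ∈ D.CY Y ↔ (D.s ((1 : A') ⊗ₜ[A] c)).support ⊆ Y := Iff.rfl

theorem DualData.CY_mono {Y Y' : Finset (A' ⊗[A] C)} (h : Y ⊆ Y') : D.CY Y ≤ D.CY Y' :=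
  fun _ hc => Finset.Subset.trans hc h

theorem DualData.exists_mem_CY (c : C) : ∃ Y, c ∈ D.CY Y := ⟨_, Finset.Subset.refl _⟩

/-- the dual basis expansion -/
theorem DualData.sum_coord {Y : Finset (A' ⊗[A] C)} {c : C} (hc : c ∈ D.CY Y) :
    ∑ y ∈ Y, D.coord y c • y = (1 : A') ⊗ₜ[A] c := by
  have h1 := D.hs ((1 : A') ⊗ₜ[A] c)
  rw [Finsupp.linearCombination_apply, Finsupp.sum] at h1
  rw [← h1]
  symm
  apply Finset.sum_subset hc
  intro y _ hy
  rw [Finsupp.notMem_support_iff] at hy
  simp only [id_eq]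
  rw [hy, zero_smul]

end Groth.Agent.Lib.Helper24.SubComod
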