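import Mathlib
import Groth.Agent.Lib.Helper24.SubComod.Descent
import Groth.Agent.Lib.Helper24.SubComod.DualBasis

/-!
# The coefficient module of a subset of `V ⊗ C` after a base change making `C` projective,
and its descent
-/

set_option autoImplicit false
universe u

open TensorProduct

namespace Groth.Agent.Lib.Helper24.SubComod

variable {A : Type*} [CommRing A] {A' : Type*} [CommRing A'] [Algebra A A']
  {C : Type*} [AddCommGroup C] [Module A C] {V : Type*} [AddCommGroup V] [Module A V]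

/-- `v ⊗ c ↦ φ c ⊗ v` -/
noncomputable def T (φ : C →ₗ[A] A') : V ⊗[A] C →ₗ[A] A' ⊗[A] V :=
  (TensorProduct.comm A V A').toLinearMap ∘ₗ LinearMap.lTensor V φ

@[simp] theorem T_tmul (φ : C →ₗ[A] A') (v : V) (c : C) : T φ (v ⊗ₜ[A] c) = φ c ⊗ₜ[A] v := by
  simp [T]

theorem T_smul (a : A') (φ : C →ₗ[A] A') (x : V ⊗[A] C) : T (a • φ) x = a • T φ x := by
  induction x with
  | zero => simp
  | tmul v c => simp [TensorProduct.smul_tmul']
  | add x y hx hy => rw [map_add, map_add, hx, hy, smul_add]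

/-- the `A'`-submodule of `A' ⊗ V` of coefficients of the elements of `X` -/
def Wp (A' : Type*) [CommRing A'] [Algebra A A'] (X : Set (V ⊗[A] C)) :
    Submodule A' (A' ⊗[A] V) :=
  Submodule.span A' {n | ∃ x ∈ X, ∃ φ : C →ₗ[A] A', n = T φ x}

theorem T_mem_Wp {X : Set (V ⊗[A] C)} {x : V ⊗[A] C} (hx : x ∈ X) (φ : C →ₗ[A] A') :
    T φ x ∈ Wp A' X :=
  Submodule.subset_span ⟨x, hx, φ, rfl⟩

/-- scalar multiplication `A' ⊗ P → P` -/
noncomputable def μP (A' V : Type*) [CommRing A'] [Algebra A A'] [AddCommGroup V] [Module A V] :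
    A' ⊗[A] (A' ⊗[A] V) →ₗ[A] A' ⊗[A] V :=
  TensorProduct.lift (LinearMap.mk₂ A (fun (q : A') (n : A' ⊗[A] V) => q • n)
    (fun q q' n => add_smul q q' n) (fun c q n => smul_assoc c q n)
    (fun q n n' => smul_add q n n') (fun c q n => smul_comm q c n))

@[simp] theorem μP_tmul (q : A') (n : A' ⊗[A] V) : μP (A := A) A' V (q ⊗ₜ[A] n) = q • n := by
  simp [μP]

/-- `(p ⊗ q, n) ↦ p ⊗ q • n` -/
noncomputable def Ψ (w : A' ⊗[A] A') : A' ⊗[A] V →ₗ[A] A' ⊗[A] (A' ⊗[A] V) :=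
  LinearMap.lTensor A' (μP A' V) ∘ₗ (TensorProduct.assoc A A' A' (A' ⊗[A] V)).toLinearMap ∘ₗ
    (TensorProduct.mk A (A' ⊗[A] A') (A' ⊗[A] V) w)

@[simp] theorem Ψ_tmul (p q : A') (n : A' ⊗[A] V) :
    Ψ (A := A) (p ⊗ₜ[A] q) n = p ⊗ₜ[A] (q • n) := by
  simp [Ψ]

theorem Ψ_add (w w' : A' ⊗[A] A') (n : A' ⊗[A] V) : Ψ (w + w') n = Ψ w n + Ψ w' n := by
  simp [Ψ]

theorem Ψ_zero (n : A' ⊗[A] V) : Ψ (0 : A' ⊗[A] A') n = 0 := by
  simp [Ψ]

theorem Ψ_sum {ι : Type*} (s : Finset ι) (w : ι → A' ⊗[A] A') (n : A' ⊗[A] V) :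
    Ψ (∑ i ∈ s, w i) n = ∑ i ∈ s, Ψ (w i) n := by
  classical
  induction s using Finset.induction_on with
  | empty => simp [Ψ_zero]
  | insert i s hi ih => rw [Finset.sum_insert hi, Finset.sum_insert hi, Ψ_add, ih]

theorem Ψ_mem (N' : Submodule A' (A' ⊗[A] V)) (w : A' ⊗[A] A') {n : A' ⊗[A] V} (hn : n ∈ N') :
    Ψ w n ∈ E N' := by
  induction w with
  | zero => rw [Ψ_zero]; exact Submodule.zero_mem _
  | tmul p q => rw [Ψ_tmul]; exact tmul_mem_E N' p (N'.smul_mem q hn)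
  | add w w' hw hw' => rw [Ψ_add]; exact Submodule.add_mem _ hw hw'

/-- multiplication of the second factor by `b` -/
noncomputable def rmul (b : A') : A' ⊗[A] A' →ₗ[A] A' ⊗[A] A' :=
  LinearMap.lTensor A' (LinearMap.mulRight A b)

theorem Ψ_rmul (b : A') (w : A' ⊗[A] A') (n : A' ⊗[A] V) : Ψ (rmul b w) n = Ψ w (b • n) := by
  induction w with
  | zero => simp [Ψ_zero]
  | tmul p q => simp [rmul, mul_smul]
  | add w w' hw hw' => rw [map_add, Ψ_add, Ψ_add, hw, hw']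

/-- `a' ⊗ d ↦ φ d ⊗ a'` -/
noncomputable def κ (φ : C →ₗ[A] A') : A' ⊗[A] C →ₗ[A] A' ⊗[A] A' :=
  (TensorProduct.comm A A' A').toLinearMap ∘ₗ LinearMap.lTensor A' φ

@[simp] theorem κ_tmul (φ : C →ₗ[A] A') (a : A') (d : C) : κ φ (a ⊗ₜ[A] d) = φ d ⊗ₜ[A] a := by
  simp [κ]

theorem κ_smul (φ : C →ₗ[A] A') (b : A') (z : A' ⊗[A] C) : κ φ (b • z) = rmul b (κ φ z) := by
  induction z with
  | zero => simp
  | tmul a d => simp [rmul, TensorProduct.smul_tmul', mul_comm]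
  | add z z' hz hz' => rw [smul_add, map_add, map_add, hz, hz', map_add]

variable (D : DualData A A' C)

/-- the key identity on pure tensors -/
theorem swap_tmul (φ : C →ₗ[A] A') {Y : Finset (A' ⊗[A] C)} (v : V) {c : C} (hc : c ∈ D.CY Y) :
    τ A' V ((1 : A') ⊗ₜ[A] T φ (v ⊗ₜ[A] c)) =
      ∑ y ∈ Y, Ψ (κ φ y) (T (D.coord y) (v ⊗ₜ[A] c)) := by
  have h1 : ∀ y ∈ Y, Ψ (κ φ y) (T (D.coord y) (v ⊗ₜ[A] c)) =
      Ψ (κ φ (D.coord y c • y)) ((1 : A') ⊗ₜ[A] v) := by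
    intro y _
    rw [κ_smul, Ψ_rmul, T_tmul, TensorProduct.smul_tmul', smul_eq_mul, mul_one]
  rw [Finset.sum_congr rfl h1, ← Ψ_sum, ← map_sum, D.sum_coord hc, κ_tmul, Ψ_tmul, one_smul, T_tmul]
  simp

end Groth.Agent.Lib.Helper24.SubComod

namespace Groth.Agent.Lib.Helper24.SubComod

variable {A : Type*} [CommRing A] {A' : Type*} [CommRing A'] [Algebra A A']
  {C : Type*} [AddCommGroup C] [Module A C] {V : Type*} [AddCommGroup V] [Module A V]
  (D : DualData A A' C)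

/-- the span of the pure tensors whose second factor has coordinates supported in `Y` -/
def DualData.S₁ (V : Type*) [AddCommGroup V] [Module A V] (Y : Finset (A' ⊗[A] C)) :
    Submodule A (V ⊗[A] C) :=
  Submodule.span A {z | ∃ (v : V), ∃ c ∈ D.CY Y, z = v ⊗ₜ[A] c}

theorem DualData.S₁_mono {Y Y' : Finset (A' ⊗[A] C)} (h : Y ⊆ Y') : D.S₁ V Y ≤ D.S₁ V Y' := by
  apply Submodule.span_mono
  rintro _ ⟨v, c, hc, rfl⟩
  exact ⟨v, c, D.CY_mono h hc, rfl⟩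

theorem DualData.exists_mem_S₁ (x : V ⊗[A] C) : ∃ Y, x ∈ D.S₁ V Y := by
  classical
  induction x with
  | zero => exact ⟨∅, Submodule.zero_mem _⟩
  | tmul v c =>
    obtain ⟨Y, hY⟩ := D.exists_mem_CY c
    exact ⟨Y, Submodule.subset_span ⟨v, c, hY, rfl⟩⟩
  | add x y hx hy =>
    obtain ⟨Y, hY⟩ := hx
    obtain ⟨Y', hY'⟩ := hy
    exact ⟨Y ∪ Y', Submodule.add_mem _ (D.S₁_mono Finset.subset_union_left hY)
      (D.S₁_mono Finset.subset_union_right hY')⟩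

theorem swap_of_mem (φ : C →ₗ[A] A') {Y : Finset (A' ⊗[A] C)} {x : V ⊗[A] C} (hx : x ∈ D.S₁ V Y) :
    τ A' V ((1 : A') ⊗ₜ[A] T φ x) = ∑ y ∈ Y, Ψ (κ φ y) (T (D.coord y) x) := by
  let f : V ⊗[A] C →ₗ[A] A' ⊗[A] (A' ⊗[A] V) :=
    (τ A' V).toLinearMap ∘ₗ (TensorProduct.mk A A' (A' ⊗[A] V) 1) ∘ₗ T φ
  let g : V ⊗[A] C →ₗ[A] A' ⊗[A] (A' ⊗[A] V) := ∑ y ∈ Y, Ψ (κ φ y) ∘ₗ T (D.coord y)
  have hfg : Set.EqOn f g {z | ∃ (v : V), ∃ c ∈ D.CY Y, z = v ⊗ₜ[A] c} := by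
    rintro _ ⟨v, c, hc, rfl⟩
    have := swap_tmul D φ v hc
    simp only [f, g, LinearMap.coe_comp, LinearEquiv.coe_coe, Function.comp_apply,
      LinearMap.coe_sum, Finset.sum_apply, TensorProduct.mk_apply]
    exact this
  have := LinearMap.eqOn_span hfg hx
  simpa [f, g] using this

include D in
theorem swap_mem {X : Set (V ⊗[A] C)} {x : V ⊗[A] C} (hx : x ∈ X) (φ : C →ₗ[A] A') :
    τ A' V ((1 : A') ⊗ₜ[A] T φ x) ∈ E (Wp A' X) := by
  obtain ⟨Y, hY⟩ := D.exists_mem_S₁ x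
  rw [swap_of_mem D φ hY]
  exact Submodule.sum_mem _ fun y _ => Ψ_mem _ _ (T_mem_Wp hx _)

theorem smul_mem_E (N' : Submodule A' (A' ⊗[A] V)) (a : A') {e : A' ⊗[A] (A' ⊗[A] V)}
    (he : e ∈ E N') : a • e ∈ E N' := by
  obtain ⟨z, rfl⟩ := he
  refine ⟨a • z, ?_⟩
  induction z with
  | zero => simp
  | tmul p n => simp [TensorProduct.smul_tmul']
  | add z z' hz hz' => rw [smul_add, map_add, hz, hz', map_add, smul_add]

theorem τ_one_tmul_smul (a : A') (n : A' ⊗[A] V) :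
    τ A' V ((1 : A') ⊗ₜ[A] (a • n)) = a • τ A' V ((1 : A') ⊗ₜ[A] n) := by
  induction n with
  | zero => simp
  | tmul p v => simp [TensorProduct.smul_tmul']
  | add n n' hn hn' => rw [smul_add, tmul_add, map_add, hn, hn', tmul_add, map_add, smul_add]

include D in
theorem swap_mem_Wp {X : Set (V ⊗[A] C)} {n : A' ⊗[A] V} (hn : n ∈ Wp A' X) :
    τ A' V ((1 : A') ⊗ₜ[A] n) ∈ E (Wp A' X) := by
  induction hn using Submodule.span_induction with
  | mem n hn =>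
    obtain ⟨x, hx, φ, rfl⟩ := hn
    exact swap_mem D hx φ
  | zero => simp
  | add n n' _ _ hn hn' => rw [tmul_add, map_add]; exact Submodule.add_mem _ hn hn'
  | smul a n _ hn => rw [τ_one_tmul_smul]; exact smul_mem_E _ a hn

include D in
/-- **Descent of the coefficient module.** -/
theorem Wp_eq_span [Module.Flat A A'] (X : Set (V ⊗[A] C)) :
    Wp A' X = Submodule.span A'
      (ιV A' V '' (Submodule.comap (ιV A' V) ((Wp A' X).restrictScalars A))) := by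
  apply le_antisymm
  · exact le_span_of_swap_mem _ fun n hn => swap_mem_Wp D hn
  · rw [Submodule.span_le]
    rintro _ ⟨v, hv, rfl⟩
    exact hv

end Groth.Agent.Lib.Helper24.SubComod
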