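import Mathlib
import Groth.Prelude.Def_HopfRep
import Groth.Agent.Lib.Helper24.SubComod.Swap

/-!
# The candidate smallest subcomodule: containment, minimality, finite generation
-/

set_option autoImplicit false
universe u

open TensorProduct

namespace Groth.Agent.Lib.Helper24.SubComod

variable {A : Type*} [CommRing A] (A' : Type*) [CommRing A'] [Algebra A A']
  (C : Type*) [AddCommGroup C] [Module A C] [Coalgebra A C]
  {V : Type*} [AddCommGroup V] [Module A V] [HopfRep.Comod A C V]

/-- the coaction -/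
noncomputable abbrev coactL (A : Type*) [CommRing A] (C : Type*) [AddCommGroup C] [Module A C]
    [Coalgebra A C] (V : Type*) [AddCommGroup V] [Module A V] [HopfRep.Comod A C V] :
    V →ₗ[A] V ⊗[A] C :=
  HopfRep.Comod.coact (k := A) (A := C)

/-- the coefficient module of `ρ(M)` -/
noncomputable abbrev WM (M : Submodule A V) : Submodule A' (A' ⊗[A] V) :=
  Wp A' (coactL A C V '' (M : Set V))

/-- the candidate smallest subcomodule containing `M` -/
noncomputable def Wmin (M : Submodule A V) : Submodule A V :=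
  Submodule.comap (ιV A' V) ((WM A' C M).restrictScalars A)

variable {A' C}

theorem mem_Wmin {M : Submodule A V} {v : V} :
    v ∈ Wmin A' C M ↔ (1 : A') ⊗ₜ[A] v ∈ WM A' C M := Iff.rfl

theorem le_Wmin (M : Submodule A V) : M ≤ Wmin A' C M := by
  intro m hm
  rw [mem_Wmin]
  have key : (1 : A') ⊗ₜ[A] m =
      T ((Algebra.linearMap A A') ∘ₗ (Coalgebra.counit (R := A) (A := C))) (coactL A C V m) := by
    have h := LinearMap.congr_fun (HopfRep.Comod.counit_comp (k := A) (A := C) (V := V)) m
    simp only [LinearMap.comp_apply, LinearMap.flip_apply, TensorProduct.mk_apply] at h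
    rw [T, LinearMap.lTensor_comp, LinearMap.comp_apply, LinearMap.comp_apply]
    erw [h]
    simp
  rw [key]
  exact T_mem_Wp (Set.mem_image_of_mem _ hm) _

theorem WM_le_span {M W₁ : Submodule A V} (hW₁ : HopfRep.IsSubcomod (k := A) (A := C) W₁)
    (hM : M ≤ W₁) : WM A' C M ≤ Submodule.span A' (ιV A' V '' (W₁ : Set V)) := by
  rw [WM, Wp, Submodule.span_le]
  rintro _ ⟨_, ⟨m, hm, rfl⟩, φ, rfl⟩
  obtain ⟨z, hz⟩ := hW₁ m (hM hm)
  show T φ (HopfRep.Comod.coact (k := A) (A := C) m) ∈ _
  rw [← hz]
  clear hz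
  induction z with
  | zero => simp
  | tmul w c =>
    simp only [LinearMap.rTensor_tmul, Submodule.subtype_apply, T_tmul]
    have : φ c ⊗ₜ[A] (w : V) = φ c • ιV A' V (w : V) := by
      simp [TensorProduct.smul_tmul']
    rw [this]
    exact Submodule.smul_mem _ _ (Submodule.subset_span ⟨w, w.2, rfl⟩)
  | add x y hx hy =>
    simp only [map_add]
    exact add_mem hx hy

theorem Wmin_le [Module.FaithfullyFlat A A'] {M W₁ : Submodule A V}
    (hW₁ : HopfRep.IsSubcomod (k := A) (A := C) W₁) (hM : M ≤ W₁) : Wmin A' C M ≤ W₁ := by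
  have h2 : Submodule.span A' (ιV A' V '' (W₁ : Set V)) ≤
      LinearMap.ker (LinearMap.baseChange A' W₁.mkQ) := by
    rw [Submodule.span_le]
    rintro _ ⟨w, hw, rfl⟩
    have : W₁.mkQ w = 0 := by simpa using hw
    simp [this]
  intro w hw
  have h3 := h2 (WM_le_span hW₁ hM hw)
  rw [LinearMap.mem_ker] at h3
  change LinearMap.baseChange A' W₁.mkQ ((1 : A') ⊗ₜ[A] w) = 0 at h3
  rw [LinearMap.baseChange_tmul] at h3
  have h4 := Module.FaithfullyFlat.tensorProduct_mk_injective (A := A) (B := A') (V ⧸ W₁)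
    (a₁ := W₁.mkQ w) (a₂ := 0) (by simpa using h3)
  simpa using h4

end Groth.Agent.Lib.Helper24.SubComod
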