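import Mathlib
import Groth.Prelude.Def_HopfRep
import Groth.Agent.Lib.Helper24.SubComod.Sub

/-!
# The candidate smallest subcomodule is a subcomodule
-/

set_option autoImplicit false
universe u

open TensorProduct

namespace Groth.Agent.Lib.Helper24.SubComod

section

variable {A : Type*} [CommRing A] {A' : Type*} [CommRing A'] [Algebra A A']
  {C : Type*} [AddCommGroup C] [Module A C] {V : Type*} [AddCommGroup V] [Module A V]
  {U : Type*} [AddCommGroup U] [Module A U]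

theorem T_rTensor (φ : C →ₗ[A] A') (f : V →ₗ[A] U) (x : V ⊗[A] C) :
    LinearMap.lTensor A' f (T φ x) = T φ (LinearMap.rTensor C f x) := by
  induction x with
  | zero => simp
  | tmul v c => simp
  | add x y hx hy => simp only [map_add, hx, hy]

theorem T_lTensor {C₂ : Type*} [AddCommGroup C₂] [Module A C₂] (χ : C₂ →ₗ[A] A')
    (g : C →ₗ[A] C₂) (x : V ⊗[A] C) :
    T χ (LinearMap.lTensor V g x) = T (χ ∘ₗ g) x := by
  induction x with
  | zero => simp
  | tmul v c => simp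
  | add x y hx hy => simp only [map_add, hx, hy]

theorem lTensor_smul {P Q : Type*} [AddCommGroup P] [Module A P] [AddCommGroup Q] [Module A Q]
    (g : P →ₗ[A] Q) (a : A') (z : A' ⊗[A] P) :
    LinearMap.lTensor A' g (a • z) = a • LinearMap.lTensor A' g z := by
  have h := (LinearMap.baseChange A' g).map_smul a z
  have e : ∀ y, LinearMap.baseChange A' g y = LinearMap.lTensor A' g y := fun y =>
    congrFun (LinearMap.baseChange_eq_ltensor (A := A') g) y
  rw [e, e] at h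
  exact h

/-- `(a' ⊗ d, a ⊗ v) ↦ (a' a) ⊗ (v ⊗ d)` -/
noncomputable def Pi2 : (A' ⊗[A] C) →ₗ[A] (A' ⊗[A] V) →ₗ[A] A' ⊗[A] (V ⊗[A] C) :=
  (TensorProduct.mk A (A' ⊗[A] C) (A' ⊗[A] V)).compr₂
    (LinearMap.rTensor (V ⊗[A] C) (LinearMap.mul' A A') ∘ₗ
      (TensorProduct.congr (LinearEquiv.refl A (A' ⊗[A] A')) (TensorProduct.comm A C V)).toLinearMap ∘ₗ
      (TensorProduct.tensorTensorTensorComm A A' C A' V).toLinearMap)

@[simp] theorem Pi2_tmul (a' a : A') (d : C) (v : V) :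
    Pi2 (A := A) (a' ⊗ₜ[A] d) (a ⊗ₜ[A] v) = (a' * a) ⊗ₜ[A] (v ⊗ₜ[A] d) := by
  simp [Pi2]

theorem Pi2_smul_right (b : A') (z : A' ⊗[A] C) (n : A' ⊗[A] V) :
    Pi2 z (b • n) = b • Pi2 z n := by
  induction z with
  | zero => simp
  | tmul a' d =>
    induction n with
    | zero => simp
    | tmul a v => simp [TensorProduct.smul_tmul', mul_left_comm]
    | add n n' hn hn' => simp only [smul_add, map_add, hn, hn']
  | add z z' hz hz' => simp only [map_add, LinearMap.add_apply, hz, hz', smul_add]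

theorem Pi2_smul_left (b : A') (z : A' ⊗[A] C) (n : A' ⊗[A] V) :
    Pi2 (b • z) n = b • Pi2 z n := by
  induction z with
  | zero => simp
  | tmul a' d =>
    induction n with
    | zero => simp
    | tmul a v => simp [TensorProduct.smul_tmul', mul_assoc]
    | add n n' hn hn' => simp only [smul_add, map_add, hn, hn']
  | add z z' hz hz' => simp only [smul_add, map_add, LinearMap.add_apply, hz, hz']

/-- `(v ⊗ c) ⊗ c' ↦ ψ c * φ c' ⊗ v` -/
noncomputable def T2 (ψ φ : C →ₗ[A] A') : (V ⊗[A] C) ⊗[A] C →ₗ[A] A' ⊗[A] V :=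
  T (C := C ⊗[A] C) (LinearMap.mul' A A' ∘ₗ TensorProduct.map ψ φ) ∘ₗ
    (TensorProduct.assoc A V C C).toLinearMap

@[simp] theorem T2_tmul (ψ φ : C →ₗ[A] A') (v : V) (c c' : C) :
    T2 ψ φ ((v ⊗ₜ[A] c) ⊗ₜ[A] c') = (ψ c * φ c') ⊗ₜ[A] v := by
  simp [T2]

variable (D : DualData A A' C)

/-- the span of the pure tensors whose middle factor has coordinates supported in `Y` -/
def DualData.S₂ (V : Type*) [AddCommGroup V] [Module A V] (Y : Finset (A' ⊗[A] C)) :
    Submodule A ((V ⊗[A] C) ⊗[A] C) :=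
  Submodule.span A {t | ∃ (v : V) (c' : C), ∃ c ∈ D.CY Y, t = (v ⊗ₜ[A] c) ⊗ₜ[A] c'}

theorem DualData.S₂_mono {Y Y' : Finset (A' ⊗[A] C)} (h : Y ⊆ Y') : D.S₂ V Y ≤ D.S₂ V Y' := by
  apply Submodule.span_mono
  rintro _ ⟨v, c', c, hc, rfl⟩
  exact ⟨v, c', c, D.CY_mono h hc, rfl⟩

theorem DualData.tmul_mem_S₂ {Y : Finset (A' ⊗[A] C)} {x : V ⊗[A] C} (hx : x ∈ D.S₁ V Y) (c' : C) :
    x ⊗ₜ[A] c' ∈ D.S₂ V Y := by
  induction hx using Submodule.span_induction with
  | mem x hx =>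
    obtain ⟨v, c, hc, rfl⟩ := hx
    exact Submodule.subset_span ⟨v, c', c, hc, rfl⟩
  | zero => simp
  | add x y _ _ hx hy => rw [TensorProduct.add_tmul]; exact add_mem hx hy
  | smul a x _ hx => rw [← TensorProduct.smul_tmul']; exact Submodule.smul_mem _ _ hx

theorem DualData.exists_mem_S₂ (t : (V ⊗[A] C) ⊗[A] C) : ∃ Y, t ∈ D.S₂ V Y := by
  classical
  induction t with
  | zero => exact ⟨∅, Submodule.zero_mem _⟩
  | tmul x c' =>
    obtain ⟨Y, hY⟩ := D.exists_mem_S₁ x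
    exact ⟨Y, D.tmul_mem_S₂ hY c'⟩
  | add x y hx hy =>
    obtain ⟨Y, hY⟩ := hx
    obtain ⟨Y', hY'⟩ := hy
    exact ⟨Y ∪ Y', Submodule.add_mem _ (D.S₂_mono Finset.subset_union_left hY)
      (D.S₂_mono Finset.subset_union_right hY')⟩

/-- the key identity -/
theorem T_eq_sum_Pi2 (φ : C →ₗ[A] A') {Y : Finset (A' ⊗[A] C)} {t : (V ⊗[A] C) ⊗[A] C}
    (ht : t ∈ D.S₂ V Y) :
    T (V := V ⊗[A] C) φ t = ∑ y ∈ Y, Pi2 y (T2 (D.coord y) φ t) := by
  let g : (V ⊗[A] C) ⊗[A] C →ₗ[A] A' ⊗[A] (V ⊗[A] C) :=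
    ∑ y ∈ Y, (Pi2 y) ∘ₗ T2 (D.coord y) φ
  have hfg : Set.EqOn (T (V := V ⊗[A] C) φ) g
      {t | ∃ (v : V) (c' : C), ∃ c ∈ D.CY Y, t = (v ⊗ₜ[A] c) ⊗ₜ[A] c'} := by
    rintro _ ⟨v, c', c, hc, rfl⟩
    simp only [g, LinearMap.coe_sum, Finset.sum_apply, LinearMap.comp_apply, T_tmul, T2_tmul]
    have h1 : ∀ y ∈ Y, Pi2 y ((D.coord y c * φ c') ⊗ₜ[A] v) =
        Pi2 (φ c' • (D.coord y c • y)) ((1 : A') ⊗ₜ[A] v) := by
      intro y _
      rw [Pi2_smul_left, Pi2_smul_left, ← Pi2_smul_right, ← Pi2_smul_right,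
        TensorProduct.smul_tmul', TensorProduct.smul_tmul', smul_eq_mul, smul_eq_mul, mul_one,
        mul_comm]
    rw [Finset.sum_congr rfl h1, ← LinearMap.sum_apply, ← map_sum, ← Finset.smul_sum,
      D.sum_coord hc, TensorProduct.smul_tmul', smul_eq_mul, mul_one, Pi2_tmul, mul_one]
  have := LinearMap.eqOn_span hfg ht
  simpa [g] using this

end

variable {A : Type*} [CommRing A] {A' : Type*} [CommRing A'] [Algebra A A']
  {C : Type*} [AddCommGroup C] [Module A C] [Coalgebra A C]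
  {V : Type*} [AddCommGroup V] [Module A V] [HopfRep.Comod A C V]
  (D : DualData A A' C)

/-- the image of `A' ⊗ (W ⊗ C)` in `A' ⊗ (V ⊗ C)` -/
noncomputable abbrev K' (W : Submodule A V) : Submodule A (A' ⊗[A] (V ⊗[A] C)) :=
  LinearMap.range (LinearMap.lTensor A' (LinearMap.rTensor C W.subtype))

omit [Coalgebra A C] [HopfRep.Comod A C V] in
theorem smul_mem_K' (W : Submodule A V) (a : A') {e : A' ⊗[A] (V ⊗[A] C)}
    (he : e ∈ K' (A' := A') (C := C) W) : a • e ∈ K' (A' := A') (C := C) W := by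
  obtain ⟨z, rfl⟩ := he
  exact ⟨a • z, lTensor_smul _ _ _⟩

omit [Coalgebra A C] [HopfRep.Comod A C V] in
theorem Pi2_mem_K' (W : Submodule A V) (z : A' ⊗[A] C) {n : A' ⊗[A] V}
    (hn : n ∈ Submodule.span A' (ιV A' V '' (W : Set V))) :
    Pi2 z n ∈ K' (A' := A') (C := C) W := by
  induction hn using Submodule.span_induction with
  | mem n hn =>
    obtain ⟨w, hw, rfl⟩ := hn
    induction z with
    | zero => simp
    | tmul a' d =>
      refine ⟨a' ⊗ₜ[A] ((⟨w, hw⟩ : W) ⊗ₜ[A] d), ?_⟩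
      simp
    | add z z' hz hz' => rw [map_add, LinearMap.add_apply]; exact add_mem hz hz'
  | zero => simp
  | add n n' _ _ hn hn' => rw [map_add]; exact add_mem hn hn'
  | smul a n _ hn => rw [Pi2_smul_right]; exact smul_mem_K' W a hn

include D in
theorem lTensor_coact_T_mem [Module.Flat A A'] {M : Submodule A V} {m : V} (hm : m ∈ M)
    (φ : C →ₗ[A] A') :
    LinearMap.lTensor A' (coactL A C V) (T φ (coactL A C V m)) ∈
      K' (A' := A') (C := C) (Wmin A' C M) := by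
  rw [T_rTensor]
  obtain ⟨Y, hY⟩ := D.exists_mem_S₂ (LinearMap.rTensor C (coactL A C V) (coactL A C V m))
  rw [T_eq_sum_Pi2 D φ hY]
  refine Submodule.sum_mem _ fun y _ => Pi2_mem_K' _ _ ?_
  have hW : WM A' C M = Submodule.span A' (ιV A' V '' ((Wmin A' C M : Submodule A V) : Set V)) :=
    Wp_eq_span D _
  rw [← hW]
  have h := LinearMap.congr_fun (HopfRep.Comod.coassoc (k := A) (A := C) (V := V)) m
  simp only [LinearMap.comp_apply, LinearEquiv.coe_coe] at h
  rw [T2, LinearMap.comp_apply, LinearEquiv.coe_coe]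
  erw [h]
  rw [T_lTensor]
  exact T_mem_Wp (Set.mem_image_of_mem _ hm) _

include D in
theorem lTensor_coact_mem [Module.Flat A A'] {M : Submodule A V} {n : A' ⊗[A] V}
    (hn : n ∈ WM A' C M) :
    LinearMap.lTensor A' (coactL A C V) n ∈ K' (A' := A') (C := C) (Wmin A' C M) := by
  induction hn using Submodule.span_induction with
  | mem n hn =>
    obtain ⟨_, ⟨m, hm, rfl⟩, φ, rfl⟩ := hn
    exact lTensor_coact_T_mem D hm φ
  | zero => simp
  | add n n' _ _ hn hn' => rw [map_add]; exact add_mem hn hn'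
  | smul a n _ hn => rw [lTensor_smul]; exact smul_mem_K' _ a hn

theorem isSubcomod_Wmin [Module.FaithfullyFlat A A'] [Module.Projective A' (A' ⊗[A] C)]
    (M : Submodule A V) : HopfRep.IsSubcomod (k := A) (A := C) (Wmin A' C M) := by
  obtain ⟨D⟩ := exists_dualData (A := A) (A' := A') (C := C)
  intro w hw
  set Kc : Submodule A (V ⊗[A] C) := LinearMap.range (LinearMap.rTensor C (Wmin A' C M).subtype)
    with hKc
  have h1 := lTensor_coact_mem D (mem_Wmin.1 hw)
  have h2 : K' (A' := A') (C := C) (Wmin A' C M) ≤ LinearMap.ker (LinearMap.lTensor A' Kc.mkQ) := by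
    rintro _ ⟨z, rfl⟩
    rw [LinearMap.mem_ker, ← LinearMap.comp_apply, ← LinearMap.lTensor_comp]
    have : Kc.mkQ ∘ₗ LinearMap.rTensor C (Wmin A' C M).subtype = 0 := by
      refine LinearMap.ext fun x => ?_
      rw [LinearMap.comp_apply, Submodule.mkQ_apply, LinearMap.zero_apply,
        Submodule.Quotient.mk_eq_zero]
      exact ⟨x, rfl⟩
    rw [this, LinearMap.lTensor_zero, LinearMap.zero_apply]
  have h3 := h2 h1
  rw [LinearMap.mem_ker, LinearMap.lTensor_tmul] at h3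
  have h4 := Module.FaithfullyFlat.tensorProduct_mk_injective (A := A) (B := A') ((V ⊗[A] C) ⧸ Kc)
    (a₁ := Kc.mkQ (coactL A C V w)) (a₂ := 0) (by simpa using h3)
  simpa using h4

end Groth.Agent.Lib.Helper24.SubComod
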