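import Mathlib
import Groth.Prelude.Def_HopfRep
import Groth.Agent.Lib.Helper24.SubComod.Sub

/-!
# Finite generation of the candidate smallest subcomodule
-/

set_option autoImplicit false
universe u

open TensorProduct

namespace Groth.Agent.Lib.Helper24.SubComod

section

variable {A : Type*} [CommRing A] {A' : Type*} [CommRing A'] [Algebra A A']
  {C : Type*} [AddCommGroup C] [Module A C] {V : Type*} [AddCommGroup V] [Module A V]
  (D : DualData A A' C)

/-- every coefficient is an `A'`-combination of the coordinate coefficients -/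
theorem T_eq_sum (φ : C →ₗ[A] A') {Y : Finset (A' ⊗[A] C)} {x : V ⊗[A] C} (hx : x ∈ D.S₁ V Y) :
    T φ x = ∑ y ∈ Y, (LinearMap.liftBaseChange A' φ y) • T (D.coord y) x := by
  let g : V ⊗[A] C →ₗ[A] A' ⊗[A] V :=
    ∑ y ∈ Y, (LinearMap.liftBaseChange A' φ y) • T (D.coord y)
  have hfg : Set.EqOn (T φ) g {z | ∃ (v : V), ∃ c ∈ D.CY Y, z = v ⊗ₜ[A] c} := by
    rintro _ ⟨v, c, hc, rfl⟩
    simp only [g, LinearMap.coe_sum, Finset.sum_apply, LinearMap.smul_apply, T_tmul,
      TensorProduct.smul_tmul', smul_eq_mul]
    rw [← TensorProduct.sum_tmul]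
    congr 1
    have h1 := congrArg (LinearMap.liftBaseChange A' φ) (D.sum_coord hc)
    rw [map_sum] at h1
    simp only [map_smul, smul_eq_mul, LinearMap.liftBaseChange_tmul, one_mul] at h1
    rw [← h1]
    exact Finset.sum_congr rfl fun y _ => mul_comm _ _
  have := LinearMap.eqOn_span hfg hx
  simpa [g] using this

end

variable {A : Type*} [CommRing A] {A' : Type*} [CommRing A'] [Algebra A A']
  {C : Type*} [AddCommGroup C] [Module A C] [Coalgebra A C]
  {V : Type*} [AddCommGroup V] [Module A V] [HopfRep.Comod A C V]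
  (D : DualData A A' C)

include D in
theorem WM_fg {M : Submodule A V} (hM : M.FG) : (WM A' C M).FG := by
  obtain ⟨s, rfl⟩ := hM
  choose Y hY using fun m : V => D.exists_mem_S₁ (coactL A C V m)
  let G : Set (A' ⊗[A] V) :=
    ⋃ m ∈ s, (fun y => T (D.coord y) (coactL A C V m)) '' (Y m : Set (A' ⊗[A] C))
  have hG : G.Finite := Set.Finite.biUnion s.finite_toSet fun m _ => (Finset.finite_toSet _).image _
  rw [Submodule.fg_def]
  refine ⟨G, hG, le_antisymm ?_ ?_⟩
  · rw [Submodule.span_le]
    intro n hn
    simp only [G, Set.mem_iUnion, Set.mem_image] at hn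
    obtain ⟨m, hm, y, _, rfl⟩ := hn
    exact T_mem_Wp (Set.mem_image_of_mem _ (Submodule.subset_span hm)) _
  · rw [WM, Wp, Submodule.span_le]
    rintro _ ⟨_, ⟨m, hm, rfl⟩, φ, rfl⟩
    revert φ
    induction hm using Submodule.span_induction with
    | mem m hm =>
      intro φ
      rw [T_eq_sum D φ (hY m)]
      refine Submodule.sum_mem _ fun y hy => Submodule.smul_mem _ _ (Submodule.subset_span ?_)
      simp only [G, Set.mem_iUnion, Set.mem_image]
      exact ⟨m, hm, y, hy, rfl⟩
    | zero => intro φ; simp
    | add m m' _ _ h h' =>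
      intro φ
      rw [map_add, map_add]
      exact add_mem (h φ) (h' φ)
    | smul a m _ h =>
      intro φ
      rw [map_smul, map_smul]
      exact Submodule.smul_of_tower_mem _ a (h φ)

theorem range_baseChange_subtype (W : Submodule A V) :
    LinearMap.range (LinearMap.baseChange A' W.subtype) =
      Submodule.span A' (ιV A' V '' (W : Set V)) := by
  apply le_antisymm
  · rintro _ ⟨z, rfl⟩
    induction z with
    | zero => simp
    | tmul a w =>
      rw [LinearMap.baseChange_tmul]
      have : a ⊗ₜ[A] (W.subtype w) = a • ιV A' V (w : V) := by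
        simp [TensorProduct.smul_tmul']
      rw [this]
      exact Submodule.smul_mem _ _ (Submodule.subset_span ⟨w, w.2, rfl⟩)
    | add x y hx hy => rw [map_add]; exact add_mem hx hy
  · rw [Submodule.span_le]
    rintro _ ⟨w, hw, rfl⟩
    exact ⟨(1 : A') ⊗ₜ[A] ⟨w, hw⟩, by simp⟩

theorem Wmin_fg [Module.FaithfullyFlat A A'] [Module.Projective A' (A' ⊗[A] C)]
    {M : Submodule A V} (hM : M.FG) : (Wmin A' C M).FG := by
  obtain ⟨D⟩ := exists_dualData (A := A) (A' := A') (C := C)
  have hfg : (WM A' C M).FG := WM_fg D hM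
  let f := LinearMap.baseChange A' (Wmin A' C M).subtype
  have hinj : Function.Injective f := by
    have := Module.Flat.lTensor_preserves_injective_linearMap (M := A') (Wmin A' C M).subtype
      (Submodule.injective_subtype _)
    intro x y hxy
    apply this
    simpa [f, LinearMap.baseChange_eq_ltensor] using hxy
  have hrange : LinearMap.range f = WM A' C M := by
    rw [range_baseChange_subtype]
    exact (Wp_eq_span D _).symm
  have hfin : Module.Finite A' (A' ⊗[A] (Wmin A' C M)) := by
    have e := LinearEquiv.ofInjective f hinj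
    have : Module.Finite A' (LinearMap.range f) := by
      rw [Module.Finite.iff_fg, hrange]
      exact hfg
    exact Module.Finite.equiv e.symm
  have : Module.Finite A (Wmin A' C M) := Module.Finite.of_finite_tensorProduct_of_faithfullyFlat A'
  exact Module.Finite.iff_fg.1 this

end Groth.Agent.Lib.Helper24.SubComod
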